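import Cfsg.Statements.S3541
import Cfsg.Agent.TH.Fin.Asm3
import Cfsg.Agent.TH.Ex.Ab.Comp
import Cfsg.Agent.TH.Ex.Ab.NT
import Cfsg.Agent.TH.Ex.Ab.ZCMain

set_option autoImplicit false
open Cfsg

namespace Cfsg.Agent.S3541

/-- Classification of the finite 3/2-transitive permutation groups. Let G act faithfully and transitively on a finite set with non-trivial point stabilizers, and suppose that for each point a all orbits of the stabilizer of a on the remaining points have the same size. Then one of the following holds: G is doubly transitive; G is a Frobenius permutation group (no non-identity element fixes two points); G has a regular normal subgroup that is an elementary abelian p-group for some prime p; the set has 21 points and G is isomorphic to the alternating or the symmetric group of degree 7; or the set has 2^(f-1)·(2^f − 1) points for some f ≥ 3 and G has a normal subgroup isomorphic to PSL(2, 2^f). -/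
theorem result {G Ω : Type*} [Group G] [Finite G] [MulAction G Ω] [FaithfulSMul G Ω] [Finite Ω]
    (htrans : MulAction.IsPretransitive G Ω) (hne : ∀ a : Ω, MulAction.stabilizer G a ≠ ⊥)
    (hhalf : ∀ a b c : Ω, b ≠ a → c ≠ a →
      Nat.card (MulAction.orbit (MulAction.stabilizer G a) b) = Nat.card (MulAction.orbit (MulAction.stabilizer G a) c)) :
    MulAction.IsMultiplyPretransitive G Ω 2 ∨
    (∀ g : G, g ≠ 1 → Nat.card (MulAction.fixedBy Ω g) ≤ 1) ∨
    (∃ (N : Subgroup G) (p : ℕ), p.Prime ∧ N.Normal ∧ Cfsg.IsElementaryAbelian p N ∧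
      MulAction.IsPretransitive N Ω ∧ ∀ a : Ω, MulAction.stabilizer N a = ⊥) ∨
    (Nat.card Ω = 21 ∧ (Nonempty (G ≃* alternatingGroup (Fin 7)) ∨ Nonempty (G ≃* Equiv.Perm (Fin 7)))) ∨
    (∃ f : ℕ, 3 ≤ f ∧ Nat.card Ω = 2 ^ (f - 1) * (2 ^ f - 1) ∧
      ∃ N : Subgroup G, N.Normal ∧
        Nonempty (↥N ≃* Matrix.ProjectiveSpecialLinearGroup (Fin 2) (GaloisField 2 f))) := by
  exact TH.Red.main_of (TH.Fin.allAS₃ (TH.Ab.Cmp.boxRt_of TH.Ab.Cmp.boxRel) (TH.Ab.boxNT_of TH.Ab.boxZC)) htrans hne hhalf

end Cfsg.Agent.S3541
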