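import Cfsg.Statements.S3544
import Cfsg.Agent.T44.Asm
import Cfsg.Agent.T44.Par
import Cfsg.Agent.T44.Low
import Cfsg.Agent.T44.Cl.Fin
import Cfsg.Agent.T44.Cl.Alt
import Cfsg.Agent.T44.Cl.Tits
import Cfsg.Agent.T44.Ex.Box
import Cfsg.Agent.T44.Spor.Box

set_option autoImplicit false
open Cfsg

namespace Cfsg.Agent.S3544

/-- In a finite primitive permutation group a set of pairwise coprime non-trivial subdegrees has at most two members: if a is a point and b, c, d are points whose orbits under the stabilizer of a each have length at least 2, then these three orbit lengths are not pairwise coprime. -/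
theorem result {G Ω : Type*} [Group G] [Finite G] [MulAction G Ω] [Finite Ω]
    (hprim : MulAction.IsPreprimitive G Ω) (a b c d : Ω)
    (hb : 2 ≤ Nat.card (MulAction.orbit (MulAction.stabilizer G a) b)) (hc : 2 ≤ Nat.card (MulAction.orbit (MulAction.stabilizer G a) c)) (hd : 2 ≤ Nat.card (MulAction.orbit (MulAction.stabilizer G a) d)) :
    ¬ ((Nat.card (MulAction.orbit (MulAction.stabilizer G a) b)).Coprime (Nat.card (MulAction.orbit (MulAction.stabilizer G a) c)) ∧
       (Nat.card (MulAction.orbit (MulAction.stabilizer G a) b)).Coprime (Nat.card (MulAction.orbit (MulAction.stabilizer G a) d)) ∧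
       (Nat.card (MulAction.orbit (MulAction.stabilizer G a) c)).Coprime (Nat.card (MulAction.orbit (MulAction.stabilizer G a) d))) := by
  open Cfsg.Agent.T44 in
  exact main_of_noAS (noAS_of cf Cl.boxAlt boxPar Cl.boxPSL Cl.boxPSp Cl.boxPSU Cl.boxOOdd Cl.boxOPlus Cl.boxOMinus
    Ex.boxChev Ex.boxTw boxSz box2F4 boxRee Cl.boxTits Spor.boxSpor) hprim a b c d hb hc hd

end Cfsg.Agent.S3544
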