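import Cfsg.Statements.S4527
import Cfsg.Agent.DZ3.Pre
import Cfsg.Agent.TAB.B.Fin.Main

set_option autoImplicit false
open Cfsg

namespace Cfsg.Agent.S4527

/-- A non-abelian finite simple group has, for every prime p ≥ 5, an irreducible character of p-defect zero: one whose degree is divisible by the full power of p dividing the order of the group. -/
theorem result {G : Type*} [Group G] [Finite G] [IsSimpleGroup G] (hna : ¬ IsMulCommutative G) (p : ℕ) (hp : p.Prime) (h5 : 5 ≤ p) : ∃ χ : Cfsg.IrrCharacter G, (Cfsg.charDegree (χ : G → ℂ)).factorization p = (Nat.card G).factorization p := by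
  exact Cfsg.Agent.DZ3.pre Cfsg.Agent.TAB.B.Fin.dz5 hna p hp h5

end Cfsg.Agent.S4527
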