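import Cfsg.Statements.S4596
import Cfsg.Agent.MK.Fin.Asm3
import Cfsg.Agent.MK.U43.GZ

set_option autoImplicit false
open Cfsg

namespace Cfsg.Agent.S4596

/-- Let G be a finite group and P a Sylow 2-subgroup of G with normalizer N. Then G and N have the same number of irreducible complex characters of odd degree (the McKay conjecture for the prime 2). -/
theorem result {G : Type*} [Group G] [Finite G] (P : Sylow 2 G) :
    Nat.card {χ : Cfsg.IrrCharacter G // Odd (Cfsg.charDegree (χ : G → ℂ))} =
      Nat.card {ψ : Cfsg.IrrCharacter (Subgroup.normalizer ((P : Subgroup G) : Set G)) // Odd (Cfsg.charDegree (ψ : Subgroup.normalizer ((P : Subgroup G) : Set G) → ℂ))} :=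
  MK.R.s4596_of (MK.Fin.ih_of (MK.Fin.left_of (fun F _ _ hF => MK.U43.u43 F hF) MK.C3L.g23 MK.C3L.O.o73 MK.S4.suz3)) P

end Cfsg.Agent.S4596
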