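import Cfsg.Statements.S4617
import Cfsg.Agent.GAL.Fin.Zero

set_option autoImplicit false
open Cfsg

namespace Cfsg.Agent.S4617

/-- Let G be a finite group with Sylow 2-subgroup P, and let k be a natural number with g ^ k = g for every 2-element g and g ^ k = g² for every element g of odd order (such k exist by the Chinese remainder theorem; an irreducible character χ satisfies χ(g ^ k) = χ(g) for all g exactly when χ is fixed by the field automorphism of the character values that fixes the 2-power roots of unity and squares the roots of unity of odd order). Then P is its own normalizer in G if and only if every irreducible character χ of G of odd degree satisfies χ(g ^ k) = χ(g) for all g ∈ G. -/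
theorem result {G : Type*} [Group G] [Finite G] (P : Sylow 2 G) (k : ℕ) (hk₁ : ∀ g : G, (∃ j : ℕ, orderOf g = 2 ^ j) → g ^ k = g) (hk₂ : ∀ g : G, Odd (orderOf g) → g ^ k = g ^ 2) :
    Subgroup.normalizer ((P : Subgroup G) : Set G) = (P : Subgroup G) ↔
      ∀ χ : Cfsg.IrrCharacter G, Odd (Cfsg.charDegree (χ : G → ℂ)) → ∀ g : G, (χ : G → ℂ) (g ^ k) = (χ : G → ℂ) g := by
  exact GAL.s4617_of GAL.Fin.allBox P k hk₁ hk₂

end Cfsg.Agent.S4617
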