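import Cfsg.Statements.S4618
import Cfsg.Agent.GAL.Fin.Zero

set_option autoImplicit false
open Cfsg

namespace Cfsg.Agent.S4618

/-- Let G be a finite group with Sylow 2-subgroup P and N the normalizer of P; fix a maximal ideal M of the algebraic integers containing 2, and a natural number k with g ^ k = g for every 2-element g and g ^ k = g² for every element g of odd order (so that χ ↦ χ ∘ (· ^ k) is the action of the field automorphism fixing 2-power roots of unity and squaring odd-order roots of unity). Then the principal 2-block of N has 2-regular rank one (a single irreducible Brauer character; equivalently N has a normal 2-complement) if and only if every irreducible character χ of odd degree in the principal 2-block of G satisfies χ(g ^ k) = χ(g) for all g ∈ G. -/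
theorem result {G : Type*} [Group G] [Finite G] (P : Sylow 2 G) (M : Ideal Cfsg.AlgInt) (hM : Cfsg.IsPModular 2 M) (k : ℕ) (hk₁ : ∀ g : G, (∃ j : ℕ, orderOf g = 2 ^ j) → g ^ k = g) (hk₂ : ∀ g : G, Odd (orderOf g) → g ^ k = g ^ 2) :
    Cfsg.blockRank 2 (Cfsg.principalBlock M (Subgroup.normalizer ((P : Subgroup G) : Set G))) = 1 ↔
      ∀ χ : Cfsg.IrrCharacter G, χ ∈ Cfsg.principalBlock M G → Odd (Cfsg.charDegree (χ : G → ℂ)) → ∀ g : G, (χ : G → ℂ) (g ^ k) = (χ : G → ℂ) g := by
  exact GAL.s4618_of GAL.Fin.allBox P M hM k hk₁ hk₂

end Cfsg.Agent.S4618
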