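import Cfsg.Statements.S4786
import Cfsg.Agent.ODD.Fin.Main

set_option autoImplicit false
open Cfsg

namespace Cfsg.Agent.S4786

/-- Let χ be an irreducible complex character of odd degree of a finite group G. If χ is not 2-rational — that is, its values do not all lie in the field generated over ℚ by a root of unity of odd order — then the square root of −1 lies in the field generated over ℚ by the values of χ. -/
theorem result {G : Type*} [Group G] [Finite G] (χ : Cfsg.IrrCharacter G) (hodd : Odd (Cfsg.charDegree (χ : G → ℂ))) (hnot : ¬ (∃ m : ℕ, Odd m ∧ ∀ g : G, (χ : G → ℂ) g ∈ IntermediateField.adjoin ℚ ({Complex.exp (2 * Real.pi * Complex.I / m)} : Set ℂ))) : Complex.I ∈ (IntermediateField.adjoin ℚ (Set.range (χ : G → ℂ)) : IntermediateField ℚ ℂ) := by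
  exact ODD.Red.s4786_of ODD.Fin.qa χ hodd hnot

end Cfsg.Agent.S4786
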