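import Cfsg.Statements.S4787
import Cfsg.Agent.ODD.Fin.Main

set_option autoImplicit false
open Cfsg

namespace Cfsg.Agent.S4787

/-- Let P be a Sylow 2-subgroup of the finite group G. Then every element of P has its square in the derived subgroup of P (the abelianization of P has exponent at most 2) if and only if every irreducible complex character of G of odd degree is 2-rational, i.e. takes all its values in the field generated over ℚ by some root of unity of odd order. -/
theorem result {G : Type*} [Group G] [Finite G] (P : Sylow 2 G) : (∀ x ∈ (P : Subgroup G), x ^ 2 ∈ ⁅(P : Subgroup G), (P : Subgroup G)⁆) ↔ ∀ χ : Cfsg.IrrCharacter G, Odd (Cfsg.charDegree (χ : G → ℂ)) → (∃ m : ℕ, Odd m ∧ ∀ g : G, (χ : G → ℂ) g ∈ IntermediateField.adjoin ℚ ({Complex.exp (2 * Real.pi * Complex.I / m)} : Set ℂ)) := by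
  exact ODD.Red.s4787_of ODD.Fin.qb ODD.Sd.exists_odd_not_rat2 P

end Cfsg.Agent.S4787
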