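import Cfsg.Statements.S4788
import Cfsg.Agent.ODD.Fin.Main

set_option autoImplicit false
open Cfsg

namespace Cfsg.Agent.S4788

/-- Let χ be an irreducible complex character of odd degree of a finite group G and d > 1 a squarefree integer. If the field generated over ℚ by the values of χ is ℚ(√d), then d ≡ 1 (mod 4); if it is ℚ(√−d) = ℚ(i√d), then d ≡ 3 (mod 4). -/
theorem result {G : Type*} [Group G] [Finite G] (χ : Cfsg.IrrCharacter G) (hodd : Odd (Cfsg.charDegree (χ : G → ℂ))) (d : ℕ) (hd : 1 < d) (hsq : Squarefree d) : ((IntermediateField.adjoin ℚ (Set.range (χ : G → ℂ)) : IntermediateField ℚ ℂ) = IntermediateField.adjoin ℚ ({((Real.sqrt d : ℝ) : ℂ)} : Set ℂ) → d % 4 = 1) ∧ ((IntermediateField.adjoin ℚ (Set.range (χ : G → ℂ)) : IntermediateField ℚ ℂ) = IntermediateField.adjoin ℚ ({Complex.I * ((Real.sqrt d : ℝ) : ℂ)} : Set ℂ) → d % 4 = 3) := by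
  exact ODD.Red.s4788_of ODD.Fin.qa χ hodd d hd hsq

end Cfsg.Agent.S4788
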