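import Cfsg.Statements.S4789
import Cfsg.Agent.ODD.Fin.Main

set_option autoImplicit false
open Cfsg

namespace Cfsg.Agent.S4789

/-- Let G be a finite quasisimple group and χ an irreducible complex character of G of odd degree that is not 2-rational (its values do not all lie in the field generated over ℚ by a root of unity of odd order). Then there is a 2-element g of G such that the square root of −1 lies in the field generated over ℚ by the single value χ(g). -/
theorem result {G : Type*} [Group G] [Finite G] (hG : Cfsg.IsQuasisimple G) (χ : Cfsg.IrrCharacter G) (hodd : Odd (Cfsg.charDegree (χ : G → ℂ))) (hnot : ¬ (∃ m : ℕ, Odd m ∧ ∀ g : G, (χ : G → ℂ) g ∈ IntermediateField.adjoin ℚ ({Complex.exp (2 * Real.pi * Complex.I / m)} : Set ℂ))) : ∃ (g : G) (k : ℕ), orderOf g = 2 ^ k ∧ Complex.I ∈ IntermediateField.adjoin ℚ ({(χ : G → ℂ) g} : Set ℂ) := by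
  exact ODD.Red.s4789_of ODD.Fin.qa hG χ hodd hnot

end Cfsg.Agent.S4789
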