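import Cfsg.Statements.S4806
import Cfsg.Agent.S0000
import Cfsg.Agent.BHZ.Final

set_option autoImplicit false
open Cfsg

namespace Cfsg.Agent.S4806

/-- Let G be a finite quasisimple group, p an odd prime and M a maximal ideal of the algebraic integers containing p. If B is a nilpotent block of G relative to M (for every Brauer pair (Q, e) of B, every element of N_G(Q) of order prime to p that stabilizes e centralizes Q), then every defect group of B is abelian. -/
theorem result {G : Type*} [Group G] [Finite G] (hG : Cfsg.IsQuasisimple G) (p : ℕ) [Fact p.Prime] (hp : p ≠ 2) (M : Ideal Cfsg.AlgInt) (hM : Cfsg.IsPModular p M) (B : Set (Cfsg.IrrCharacter G)) (hB : Cfsg.IsNilpotentBlock p M B) (D : Subgroup G) (hD : Cfsg.IsDefectGroup p M B D) : IsMulCommutative D := by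
  exact Cfsg.Agent.BHZ.Final.rows.main (fun S _ _ _ => Cfsg.Agent.S0000.result (G := S)) hG p hp M hM B hB D hD

end Cfsg.Agent.S4806
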