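import Cfsg.Statements.S4942
import Cfsg.Agent.VAN.Fin.Two
import Cfsg.Agent.TAB.F23C.Main
import Cfsg.Agent.TAB.F24C.DZ

set_option autoImplicit false
open Cfsg

namespace Cfsg.Agent.S4942

/-- Every finite non-abelian simple group G has three elements g₁, g₂, g₃ such that every irreducible complex character of G of degree greater than one vanishes at g₁, at g₂ or at g₃. -/
theorem result {G : Type*} [Group G] [Finite G] [IsSimpleGroup G] (hna : ¬ IsMulCommutative G) :
    ∃ g₁ g₂ g₃ : G, ∀ χ : Cfsg.IrrCharacter G, Cfsg.charDegree (χ : G → ℂ) ≠ 1 →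
      (χ : G → ℂ) g₁ = 0 ∨ (χ : G → ℂ) g₂ = 0 ∨ (χ : G → ℂ) g₃ = 0 :=
  VAN.Fin.main_two TAB.F23C.inF23 (TAB.F24.In.in0 TAB.F24C.inF24) hna

end Cfsg.Agent.S4942
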