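import Cfsg.Statements.S5263
import Cfsg.Agent.FS.Asm.Cov
import Cfsg.Agent.FS.Asm.Idx
import Cfsg.Agent.FS.B.D.A0
import Cfsg.Agent.FS.B.D.A1
import Cfsg.Agent.FS.B.D.A2
import Cfsg.Agent.FS.B.D.A3
import Cfsg.Agent.FS.B.D.A4
import Cfsg.Agent.FS.B.D.A5
import Cfsg.Agent.FS.B.D.A6
import Cfsg.Agent.FS.B.D.A7
import Cfsg.Agent.FS.B.D.A8
import Cfsg.Agent.FS.B.D.C2
import Cfsg.Agent.FS.B.D.E2
import Cfsg.Agent.FS.B.D.G1
import Cfsg.Agent.FS.B.D.H0

set_option autoImplicit false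
open Cfsg

namespace Cfsg.Agent.S5263

open Cfsg.Agent.FS Cfsg.Agent.FS.B Cfsg.Agent.FS.B.D in
/-- all groups of order at most 256 that survive the sweep -/
noncomputable def gl : List (ℕ × ℕ) :=
  Asm.l4 ++ (lA0 ++ (lA1 ++ (lA2 ++ (lA3 ++ (lA4 ++ (lA5 ++ (lA6 ++ (lA7 ++ (lA8 ++ (lC2 ++ (lE2 ++
    (lG1 ++ lH0))))))))))))

open Cfsg.Agent.FS Cfsg.Agent.FS.B Cfsg.Agent.FS.B.D in
theorem gl_cls : Cls gl :=
  Cls.app Asm.cl_l4 (aA0.app (aA1.app (aA2.app (aA3.app (aA4.app (aA5.app (aA6.app (aA7.app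
    (aA8.app (aC2.app (aE2.app (aG1.app aH0))))))))))))

theorem gl_cov : FS.Asm.cov2 gl = true := by decide +kernel

/-- Let S be a finite 2-group of order at most 2^8 and F a reduced fusion system over S (saturated, with no nontrivial normal subgroup, with hyperfocal subgroup all of S, and equal to its own 2'-residual subsystem). Then F is realizable: it is the fusion system of some finite group on a Sylow 2-subgroup. -/
theorem result {Ω : Type*} [Group Ω] {S : Subgroup Ω} [Finite S] (hS : IsPGroup 2 ↥S) (F : Cfsg.FusionSystem S) (hred : F.IsReduced 2) (hcard : Nat.card S ≤ 2 ^ 8) : F.IsRealizable 2 :=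
  FS.Asm.final2 gl_cov gl_cls hS F hred hcard

end Cfsg.Agent.S5263
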