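import Cfsg.Statements.S5288
import Cfsg.Agent.FS.N.A.Fin
import Cfsg.Agent.FS.N.B.D.Lv9
import Cfsg.Agent.FS.N.G.Has9
import Cfsg.Agent.FS.N.Sw.Dn

set_option autoImplicit false
open Cfsg

namespace Cfsg.Agent.S5288

/-- Let S be a finite 2-group of order at most 2^9 and F a saturated fusion system over S. Then F is realizable: it is the fusion system of some finite group on a Sylow 2-subgroup. -/
theorem result {Ω : Type*} [Group Ω] {S : Subgroup Ω} [Finite S]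
    (hS : IsPGroup 2 ↥S) (F : Cfsg.FusionSystem S) (hF : F.IsSaturated 2) (hcard : Nat.card S ≤ 2 ^ 9) : F.IsRealizable 2 :=
  FS.N.A.final FS.NB.D.lev3.1 FS.NB.D.lev4.1 FS.NB.D.lev5.1 FS.NB.D.lev6.1 FS.NB.D.lev7.1 FS.NB.D.lev8.1
    (FS.NB.D.lev9 (FS.N.A.hl9 FS.N.G.has9 FS.N.Sw.swp9 FS.N.G.w16_S9)).1 hS F hF hcard

end Cfsg.Agent.S5288
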