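import Cfsg.Statements.S5755
import Cfsg.Agent.S0000
import Cfsg.Agent.SP.Lie.All
import Cfsg.Agent.SP.NegS.RowsA
import Cfsg.Agent.SP.NegS.RowsB
import Cfsg.Agent.SP.NJ3.Main
import Cfsg.Agent.SP.Neg.Th
import Cfsg.Agent.SP.Mon.Main
import Cfsg.Agent.SP.Pos.M11
import Cfsg.Agent.SP.Pos.M12
import Cfsg.Agent.SP.Pos.M23
import Cfsg.Agent.SP.Pos.M24
import Cfsg.Agent.SP.Pos.J2
import Cfsg.Agent.SP.Pos.J4
import Cfsg.Agent.SP.Pos.Co1
import Cfsg.Agent.SP.Pos.Co2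
import Cfsg.Agent.SP.Pos.Co3
import Cfsg.Agent.SP.Pos.HS
import Cfsg.Agent.SP.Pos.Suz
import Cfsg.Agent.SP.Pos.He
import Cfsg.Agent.SP.Pos.Ru
import Cfsg.Agent.SP.Pos.ON
import Cfsg.Agent.SP.Pos.Ly
import Cfsg.Agent.SP.Pos.Fi22
import Cfsg.Agent.SP.Pos.Fi23
import Cfsg.Agent.SP.Pos.Fi24
import Cfsg.Agent.SP.Pos.HN
import Cfsg.Agent.SP.Pos.B

set_option autoImplicit false
open Cfsg

namespace Cfsg.Agent.S5755

/-- For a finite non-abelian simple group T the following three conditions are equivalent (the known proof uses the classification of the finite simple groups). (i) There are a proper subgroup A of T and a proper normal subgroup B of A with A = B(A ∩ τ(A)) for every automorphism τ of T. (ii) There are a proper subgroup A of T and a proper normal subgroup B of A with A = B(A ∩ tAt⁻¹) for every t ∈ T; that is, in the action of T on the cosets of A, the proper normal subgroup B of the point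 stabilizer A is supplemented by every two-point stabilizer. (iii) T is not isomorphic to any of the six sporadic groups J₁, M₂₂, J₃, McL, Th, M. -/
theorem result {T : Type*} [Group T] [Finite T] [IsSimpleGroup T] (hT : ¬ IsMulCommutative T) :
    ((∃ A B : Subgroup T, A ≠ ⊤ ∧ B < A ∧ (B.subgroupOf A).Normal ∧ ∀ τ : MulAut T, B ⊔ (A ⊓ A.map τ.toMonoidHom) = A) ↔
      (∃ A B : Subgroup T, A ≠ ⊤ ∧ B < A ∧ (B.subgroupOf A).Normal ∧ ∀ t : T, B ⊔ (A ⊓ A.map (MulAut.conj t).toMonoidHom) = A)) ∧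
    ((∃ A B : Subgroup T, A ≠ ⊤ ∧ B < A ∧ (B.subgroupOf A).Normal ∧ ∀ t : T, B ⊔ (A ⊓ A.map (MulAut.conj t).toMonoidHom) = A) ↔
      ¬ (Cfsg.Spor.IsoJ1 T ∨ Cfsg.Spor.IsoM22 T ∨ Cfsg.Spor.IsoJ3 T ∨ Cfsg.Spor.IsoMcL T ∨ Cfsg.Spor.IsoTh T ∨ Cfsg.Spor.IsoM T)) := by
  have hC : Cfsg.Agent.SP.CFSG.{0} := fun _ _ _ _ => Cfsg.Agent.S0000.result
  exact Cfsg.Agent.SP.main (fun _ _ _ _ => Cfsg.Agent.S0000.result) Cfsg.Agent.SP.lieRows
    ⟨SP.posM11, SP.posM12, SP.posM23, SP.posM24, SP.posJ2, SP.posJ4, SP.PosB.posCo1, SP.PosB.posCo2, SP.PosB.posCo3,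
      SP.posHS, SP.PosB.posSuz, SP.PosB.posHe, SP.PosB.posRu, SP.posON, SP.posLy, SP.posFi22, SP.posFi23, SP.posFi24,
      SP.PosB.posHN, SP.posB⟩
    ⟨SP.NegS.negJ1 hC, SP.NegS.negM22 hC, SP.negJ3 hC, SP.NegS.negMcL hC, SP.negTh hC,
      SP.Mon.negM (SP.NegS.base hC) (SP.negTh hC)⟩ hT

end Cfsg.Agent.S5755
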