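import Cfsg.Statements.S5765
import Cfsg.Agent.SB.Two
import Cfsg.Agent.SB.SporD.Fi.Row23
import Cfsg.Agent.SB.Mon.F24.Row

set_option autoImplicit false
open Cfsg

namespace Cfsg.Agent.S5765

/-- Let G be a finite group with trivial solvable radical (no non-trivial solvable normal subgroup) and let H be a maximal subgroup of G that is solvable. Then five conjugates of H have trivial intersection: H ∩ H^{x₁} ∩ H^{x₂} ∩ H^{x₃} ∩ H^{x₄} = 1 for some x₁, …, x₄ ∈ G. (The known proof uses the classification of the finite simple groups.) -/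
theorem result {G : Type*} [Group G] [Finite G] (hR : Cfsg.solvableRadical G = ⊥) (H : Subgroup G) (hmax : IsCoatom H) (hH : Group.IsSolvable ↥H) :
    ∃ x₁ x₂ x₃ x₄ : G, H ⊓ (H).map (MulAut.conj x₁).toMonoidHom ⊓ (H).map (MulAut.conj x₂).toMonoidHom ⊓ (H).map (MulAut.conj x₃).toMonoidHom ⊓ (H).map (MulAut.conj x₄).toMonoidHom = ⊥ :=
  SB.main_of SB.SporD.Fi.box_Fi23 (fun K _ _ _ _ h => SB.F24.row_Fi24 K h) hR H hmax hH

end Cfsg.Agent.S5765
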