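import Cfsg.Statements.S5932
import Cfsg.Agent.E7P.Fin.Asm
import Cfsg.Agent.E7P.A1.Fz

set_option autoImplicit false
open Cfsg

namespace Cfsg.Agent.S5932

/-- Let p be a prime and a, b ≥ 1. Let F be a field with p^b elements and G the Chevalley group of type E₇ over F (generated by its root elements in the adjoint representation; the simple group E₇(p^b)), and let K be a field with p^a elements. If H is a maximal subgroup of G whose generalized Fitting subgroup is isomorphic to PSL₂(p^a), then one of: p^a ∈ {7, 8, 19, 25}; or p ≥ 17 and a = b; or a = 7b. -/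
theorem result
    {F K : Type*} [Field F] [Fintype F] [Field K] [Fintype K] (p a b : ℕ) [Fact p.Prime] (ha : 1 ≤ a) (hb : 1 ≤ b)
    (hF : Fintype.card F = p ^ b) (hK : Fintype.card K = p ^ a) (H : Subgroup ↥(Cfsg.Lie.chevE7.group F)) (hH : IsCoatom H)
    (hL : Nonempty (↥(Cfsg.generalizedFittingSubgroup ↥H) ≃* Matrix.ProjectiveSpecialLinearGroup (Fin 2) K)) :
    (p ^ a = 7 ∨ p ^ a = 8 ∨ p ^ a = 19 ∨ p ^ a = 25) ∨ (17 ≤ p ∧ a = b) ∨ a = 7 * b :=
  Cfsg.Agent.E7P.of_box (Cfsg.Agent.E7P.asm_box Cfsg.Agent.E7P.A1.Fz.fin) p a b ha hb hF hK H hH hL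

end Cfsg.Agent.S5932
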